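import Mathlib.RingTheory.TensorProduct.Maps
import Mathlib.RingTheory.Flat.Basic
import Mathlib.LinearAlgebra.Dual.Lemmas
import Mathlib.RingTheory.Ideal.Basic

/-!
# Unit-valued Cech cocycles of an algebra over a field are coboundaries
-/

set_option autoImplicit false

universe u v

open TensorProduct Algebra.TensorProduct

namespace Groth.Agent.GmField79

variable {k : Type u} [Field k] {B : Type v} [CommRing B] [Algebra k B]

/-- The face omitting the first factor. -/
noncomputable def d₀ (k : Type u) [Field k] (B : Type v) [CommRing B] [Algebra k B] :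
    B ⊗[k] B →ₐ[k] B ⊗[k] (B ⊗[k] B) := includeRight

/-- The face omitting the second factor. -/
noncomputable def d₁ (k : Type u) [Field k] (B : Type v) [CommRing B] [Algebra k B] :
    B ⊗[k] B →ₐ[k] B ⊗[k] (B ⊗[k] B) := Algebra.TensorProduct.map (AlgHom.id k B) includeRight

/-- The face omitting the third factor. -/
noncomputable def d₂ (k : Type u) [Field k] (B : Type v) [CommRing B] [Algebra k B] :
    B ⊗[k] B →ₐ[k] B ⊗[k] (B ⊗[k] B) := Algebra.TensorProduct.map (AlgHom.id k B) includeLeft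

theorem mem_span_of_tmul_comm {V : Type v} [AddCommGroup V] [Module k V] {m n : V} (hm : m ≠ 0)
    (h : m ⊗ₜ[k] n = n ⊗ₜ[k] m) : ∃ c : k, n = c • m := by
  obtain ⟨φ, hφ⟩ := Module.Projective.exists_dual_eq_one k hm
  refine ⟨φ n, ?_⟩
  have h' := congrArg (TensorProduct.lid k V ∘ φ.rTensor V) h
  simpa [hφ] using h'

/-- A unit-valued cocycle is a coboundary. -/
theorem exists_unit_of_cocycle [Nontrivial B] (u : (B ⊗[k] B)ˣ)
    (hu : d₀ k B u * d₂ k B u = d₁ k B u) :
    ∃ m : Bˣ, (1 : B) ⊗ₜ[k] (m : B) = (u : B ⊗[k] B) * ((m : B) ⊗ₜ[k] (1 : B)) := by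
  let f : B →ₗ[k] B ⊗[k] B :=
    (LinearMap.mulLeft k (u : B ⊗[k] B)) ∘ₗ (TensorProduct.mk k B B).flip 1 - TensorProduct.mk k B B 1
  have hf : ∀ b, f b = (u : B ⊗[k] B) * (b ⊗ₜ[k] (1 : B)) - (1 : B) ⊗ₜ[k] b := fun b => rfl
  have hlT : ∀ x, f.lTensor B x = d₀ k B u * d₂ k B x - d₁ k B x := by
    intro x
    induction x using TensorProduct.induction_on with
    | zero => simp
    | tmul a b =>
      rw [LinearMap.lTensor_tmul, hf, TensorProduct.tmul_sub]
      simp [d₀, d₁, d₂]
    | add x y hx hy => rw [map_add, hx, hy, map_add, map_add, mul_add]; abel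
  obtain ⟨z, hz⟩ : ∃ z, (LinearMap.ker f).subtype.lTensor B z = (u : B ⊗[k] B) :=
    ((Module.Flat.lTensor_exact B (f.exact_subtype_ker_map)) (u : B ⊗[k] B)).1 (by rw [hlT, hu, sub_self])
  let μ := Algebra.TensorProduct.lmul' (S := B) k
  let μ₃ : B ⊗[k] (B ⊗[k] B) →ₐ[k] B := Algebra.TensorProduct.productMap (AlgHom.id k B) μ
  have hμ0 : ∀ x, μ₃ (d₀ k B x) = μ x := fun x => by simp [μ₃, d₀]
  have hμ2 : ∀ x, μ₃ (d₂ k B x) = μ x := fun x => by
    induction x using TensorProduct.induction_on with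
    | zero => simp
    | tmul a b => simp [μ₃, μ, d₂]
    | add x y hx hy => rw [map_add, map_add, map_add, hx, hy]
  have hμ1 : ∀ x, μ₃ (d₁ k B x) = μ x := fun x => by
    induction x using TensorProduct.induction_on with
    | zero => simp
    | tmul a b => simp [μ₃, μ, d₁]
    | add x y hx hy => rw [map_add, map_add, map_add, hx, hy]
  have hμu : μ u = 1 := by
    have h := congrArg μ₃ hu
    rw [map_mul, hμ0, hμ2, hμ1] at h
    exact (u.isUnit.map μ).mul_eq_right.1 h
  have hspan : (1 : B) ∈ Ideal.span (LinearMap.ker f : Set B) := by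
    rw [← hμu, ← hz]
    clear hz hμu
    induction z using TensorProduct.induction_on with
    | zero => simp
    | tmul a b =>
      rw [LinearMap.lTensor_tmul, Algebra.TensorProduct.lmul'_apply_tmul]
      exact Ideal.mul_mem_left _ a (Ideal.subset_span b.2)
    | add x y hx hy => rw [map_add, map_add]; exact add_mem hx hy
  obtain ⟨m, hm, hm0⟩ : ∃ m ∈ LinearMap.ker f, m ≠ 0 := by
    by_contra! h
    have : Ideal.span (LinearMap.ker f : Set B) = ⊥ := Ideal.span_eq_bot.2 h
    rw [this] at hspan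
    exact one_ne_zero (Ideal.mem_bot.1 hspan)
  have hrel : ∀ n ∈ LinearMap.ker f, (1 : B) ⊗ₜ[k] n = (u : B ⊗[k] B) * (n ⊗ₜ[k] (1 : B)) := fun n hn => by
    rw [LinearMap.mem_ker, hf, sub_eq_zero] at hn
    exact hn.symm
  have hsym : ∀ n ∈ LinearMap.ker f, m ⊗ₜ[k] n = n ⊗ₜ[k] m := fun n hn => by
    have e : ∀ a b : B, a ⊗ₜ[k] b = (a ⊗ₜ[k] (1 : B)) * ((1 : B) ⊗ₜ[k] b) := fun a b => by simp
    rw [e m n, e n m, hrel m hm, hrel n hn]
    ring
  have hle : Ideal.span (LinearMap.ker f : Set B) ≤ Ideal.span {m} := by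
    rw [Ideal.span_le]
    intro n hn
    obtain ⟨c, rfl⟩ := mem_span_of_tmul_comm hm0 (hsym n hn)
    exact Ideal.mem_span_singleton'.2 ⟨algebraMap k B c, (Algebra.smul_def c m).symm⟩
  obtain ⟨a, ha⟩ := Ideal.mem_span_singleton'.1 (hle hspan)
  have hmu : IsUnit m := IsUnit.of_mul_eq_one_right a ha
  exact ⟨hmu.unit, hrel m hm⟩

end Groth.Agent.GmField79
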