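import Groth.Agent.Adeq2Lib.AffineVanish
import Groth.Agent.GmField79.Cocycle
import Groth.Prelude.Def_GmPts
import Groth.Prelude.Def_CGrpSh2

/-!
# The first fppf cohomology group of a field with coefficients in the multiplicative group
-/

set_option autoImplicit false

universe u

open CategoryTheory Limits AlgebraicGeometry Opposite Abelian TensorProduct MonObj
open Groth.Agent.Adeq2Lib

namespace Groth.Agent.GmField79

open AffVan CechSingle CechAffine

/-- A section lifting over an affine covering with exact Cech complex lifts. -/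
theorem exists_preimage (R : CommRingCat.{u}) (E : ShortComplex (AbT (Spec R))) (hE : E.ShortExact)
    (B : Type u) [CommRing B] [Algebra R B] [Module.FaithfullyFlat R B]
    [LocallyOfFinitePresentation (Spec.map (CommRingCat.ofHom (algebraMap R B)))]
    (hex₁ : Ex (X₀ (R := R) B) (pr E.X₁ (𝟙 (Spec R))) 0)
    (s : E.X₃.obj.obj (op (Over.mk (𝟙 (Spec R))))) (t : E.X₂.obj.obj (op (cov (𝟙 (Spec R)) B)))
    (ht : (E.g.hom.app _).hom t = rA E.X₃ (covMap (𝟙 (Spec R)) B) s) :
    ∃ z, (E.g.hom.app (op (Over.mk (𝟙 (Spec R))))).hom z = s := by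
  let a := 𝟙 (Spec R)
  let f' : pr E.X₁ a ⟶ pr E.X₂ a := Functor.whiskerLeft (Over.map a).op E.f.hom
  let g' : pr E.X₂ a ⟶ pr E.X₃ a := Functor.whiskerLeft (Over.map a).op E.g.hom
  have hinj : ∀ U, Function.Injective (f'.app (op U)).hom := fun U => (secA_exact E hE ((Over.map a).obj U)).1
  have hex : ∀ U y, (g'.app (op U)).hom y = 0 ↔ ∃ x, (f'.app (op U)).hom x = y :=
    fun U => (secA_exact E hE ((Over.map a).obj U)).2
  let π₀ := Pi.π (fun _ : Fin 1 => X₀ (R := R) B) 0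
  let t₀ : (pr E.X₂ a).obj (op (pw (X₀ (R := R) B) 0)) := rA E.X₂ ((Over.map a).map π₀) t
  have ht₀ : (g'.app _).hom t₀ = rA E.X₃ ((Over.map a).map π₀ ≫ covMap a B) s := by
    rw [← rA_comp, ← ht]
    exact ConcreteCategory.congr_hom (E.g.hom.naturality ((Over.map a).map π₀).op) t
  obtain ⟨c, hc⟩ := (hex _ (D (X₀ (R := R) B) (pr E.X₂ a) 0 t₀)).1 (by rw [← D_nat, ht₀, D_restr])
  obtain ⟨g, hg⟩ := hex₁ c (hinj _ (by rw [← D_nat, hc, D_D, map_zero]))
  obtain ⟨z, hz⟩ := glue_cov E.X₂ a B (t₀ - (f'.app _).hom g) (by rw [map_sub, D_nat, hg, hc, sub_self])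
  refine ⟨z, ext_cov E.X₃ a B _ _ ?_⟩
  have h := congrArg (g'.app (op (pw (X₀ (R := R) B) 0))).hom hz
  rw [map_sub, (hex _ _).2 ⟨g, rfl⟩, sub_zero, ht₀] at h
  let σ₁ : X₀ (R := R) B ⟶ pw (X₀ (R := R) B) 0 := Pi.lift fun _ => 𝟙 _
  have hσ : σ₁ ≫ π₀ = 𝟙 _ := Pi.lift_π _ _
  have hn : rA E.X₃ ((Over.map a).map π₀ ≫ covMap a B) ((E.g.hom.app _).hom z) =
      (E.g.hom.app (op ((Over.map a).obj (pw (X₀ (R := R) B) 0)))).hom
        (rA E.X₂ ((Over.map a).map π₀ ≫ covMap a B) z) :=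
    (ConcreteCategory.congr_hom (E.g.hom.naturality _) z).symm
  have h' := congrArg (rA E.X₃ ((Over.map a).map σ₁)) (hn.trans h)
  rw [rA_comp, rA_comp, ← Category.assoc, ← Functor.map_comp, hσ, CategoryTheory.Functor.map_id,
    Category.id_comp] at h'
  exact h'

/-- Degree one cohomology vanishes if global sections lift along every surjection with injective source. -/
theorem subsingleton_H_one_of_lift (R : CommRingCat.{u}) (G : AbT (Spec R))
    (hG : ∀ (E : ShortComplex (AbT (Spec R))), E.ShortExact → E.X₁ = G →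
      Function.Surjective (E.g.hom.app (op (Over.mk (𝟙 (Spec R))))).hom) :
    Subsingleton (Sheaf.H G 1) := by
  let P := Classical.arbitrary (InjectivePresentation G)
  have hE := P.shortExact_shortComplex
  refine subsingleton_of_forall_eq 0 fun x => ?_
  obtain ⟨q, rfl⟩ := Ext.covariant_sequence_exact₁ _ hE x
    ((Ext.eq_zero_of_injective (I := P.J) _)) (n₀ := 0) rfl
  let hT : IsTerminal (Over.mk (𝟙 (Spec R))) := Over.mkIdTerminal
  obtain ⟨z, hz⟩ := hG P.shortComplex hE rfl (Sheaf.H.equiv₀ P.shortComplex.X₃ hT q)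
  have hy : q = Sheaf.H.map P.shortComplex.g 0 ((Sheaf.H.equiv₀ P.shortComplex.X₂ hT).symm z) := by
    refine (Sheaf.H.equiv₀ P.shortComplex.X₃ hT).injective ?_
    rw [← Sheaf.H.equiv₀_naturality, AddEquiv.apply_symm_apply, ← hz]
  rw [hy, Sheaf.H.map_apply, Ext.comp_assoc_of_second_deg_zero, hE.comp_extClass, Ext.comp_zero]

/-- Degree one cohomology vanishes if the Cech cocycles of affine coverings are coboundaries. -/
theorem subsingleton_H_one (R : CommRingCat.{u}) (G : AbT (Spec R))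
    (hG : ∀ (B : Type u) [CommRing B] [Algebra R B] [Module.FaithfullyFlat R B]
      [LocallyOfFinitePresentation (Spec.map (CommRingCat.ofHom (algebraMap R B)))],
      Ex (X₀ (R := R) B) (pr G (𝟙 (Spec R))) 0) :
    Subsingleton (Sheaf.H G 1) :=
  subsingleton_H_one_of_lift R G fun E hE h₁ s => by
    haveI := hE.epi_g
    obtain ⟨B, _, _, _, _, t, ht⟩ := exists_lift_single (𝟙 (Spec R)) E.g s
    exact exists_preimage R E hE B (h₁ ▸ hG B) s t ht

/-- Over a field only finite field extensions have to be tested. -/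
theorem subsingleton_H_one_of_finite (k : Type u) [Field k] (G : AbT (Spec (CommRingCat.of k)))
    (hG : ∀ (L : Type u) [Field L] [Algebra k L] [Module.Finite k L],
      Ex (X₀ (R := CommRingCat.of k) L) (pr G (𝟙 _)) 0) :
    Subsingleton (Sheaf.H G 1) :=
  subsingleton_H_one_of_lift _ G fun E hE h₁ s => by
    haveI := hE.epi_g
    obtain ⟨B, iB, iA, iff', hlfp, t, ht⟩ := exists_lift_single (𝟙 (Spec (CommRingCat.of k))) E.g s
    letI : Algebra k B := iA
    haveI : Module.FaithfullyFlat k B := iff'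
    haveI : Algebra.FiniteType k B :=
      RingHom.finiteType_algebraMap.1 (RingHom.FiniteType.of_finitePresentation
        ((HasRingHomProperty.Spec_iff (P := @LocallyOfFinitePresentation)).1 hlfp))
    haveI : Nontrivial B := ((TensorProduct.rid k B).symm.toEquiv).nontrivial
    obtain ⟨m, hm⟩ := Ideal.exists_maximal B
    letI : Field (B ⧸ m) := Ideal.Quotient.field m
    haveI : Algebra.FiniteType k (B ⧸ m) := Algebra.FiniteType.trans (S := B) inferInstance inferInstance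
    haveI : Module.Finite k (B ⧸ m) := finite_of_finite_type_of_isJacobsonRing k (B ⧸ m)
    haveI : Algebra.FinitePresentation k (B ⧸ m) := Algebra.FinitePresentation.of_finiteType.1 inferInstance
    haveI : Module.FaithfullyFlat (CommRingCat.of k) (B ⧸ m) := inferInstanceAs (Module.FaithfullyFlat k (B ⧸ m))
    haveI : LocallyOfFinitePresentation (Spec.map (CommRingCat.ofHom (algebraMap (CommRingCat.of k) (B ⧸ m)))) :=
      (HasRingHomProperty.Spec_iff (P := @LocallyOfFinitePresentation)).2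
        (RingHom.finitePresentation_algebraMap.2 ‹_›)
    let q : Adeq.algOf (CommRingCat.of k) B ⟶ Adeq.algOf (CommRingCat.of k) (B ⧸ m) :=
      CommAlgCat.ofHom (Ideal.Quotient.mkₐ k m)
    let c : cov (𝟙 (Spec (CommRingCat.of k))) (B ⧸ m) ⟶ cov (𝟙 (Spec (CommRingCat.of k))) B :=
      (Over.map (𝟙 (Spec (CommRingCat.of k)))).map (spMap _ q)
    have hc : c ≫ covMap (𝟙 (Spec (CommRingCat.of k))) B = covMap (𝟙 (Spec (CommRingCat.of k))) (B ⧸ m) :=
      Over.OverMorphism.ext (Over.w (spMap (CommRingCat.of k) q))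
    refine exists_preimage _ E hE (B ⧸ m) (h₁ ▸ hG (B ⧸ m)) s (rA E.X₂ c t) ?_
    refine (ConcreteCategory.congr_hom (E.g.hom.naturality c.op) t).trans ?_
    refine (congrArg (rA E.X₃ c) ht).trans ?_
    rw [rA_comp, hc]

variable {R : CommRingCat.{u}} {S : Scheme.{u}} (a : Spec R ⟶ S)

/-- Sections of the multiplicative group over the spectrum of an algebra are units. -/
noncomputable def unitsEquiv (C : Adeq.Alg R) :
    (pr (CGrpSh2.Gm Scheme.fppfPrecoverage S) a).obj (op (sp R C)) ≃ (C : Type u)ˣ :=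
  (Equiv.ulift.trans Additive.toMul).trans
    ((GmPts.equiv ((Over.map a).obj (sp R C))).toEquiv.trans
      (Units.mapEquiv (Scheme.ΓSpecIso (CommRingCat.of (C : Type u))).commRingCatIsoToRingEquiv.toMulEquiv).toEquiv)

theorem unitsEquiv_add (C : Adeq.Alg R) (x y : (pr (CGrpSh2.Gm Scheme.fppfPrecoverage S) a).obj (op (sp R C))) :
    unitsEquiv a C (x + y) = unitsEquiv a C x * unitsEquiv a C y := by
  show Units.mapEquiv _ (GmPts.equiv _ (Additive.toMul (x + y).down)) = _
  rw [show (x + y).down = x.down + y.down from rfl, toMul_add, map_mul, map_mul]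
  rfl

theorem unitsEquiv_map {C D : Adeq.Alg R} (f : C ⟶ D)
    (x : (pr (CGrpSh2.Gm Scheme.fppfPrecoverage S) a).obj (op (sp R C))) :
    (unitsEquiv a D (((pr (CGrpSh2.Gm Scheme.fppfPrecoverage S) a).map (spMap R f).op).hom x) : (D : Type u)) =
      f.hom (unitsEquiv a C x : (C : Type u)) := by
  show (Scheme.ΓSpecIso _).hom (Red.gmFn ((Over.map a).map (spMap R f) ≫ Additive.toMul x.down)) =
    f.hom ((Scheme.ΓSpecIso _).hom (Red.gmFn (Additive.toMul x.down)))
  rw [GmPts.gmFn_comp]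
  generalize Red.gmFn (Additive.toMul x.down) = z
  exact ConcreteCategory.congr_hom (Scheme.ΓSpecIso_naturality (CommRingCat.ofHom f.hom.toRingHom)) z

variable (B : Type u) [CommRing B] [Algebra R B]

/-- The square of the covering object. -/
noncomputable def sq : sp R (Adeq.algOf R (B ⊗[R] B)) ⟶ pw (X₀ (R := R) B) 1 :=
  Pi.lift ![spMap R (CommAlgCat.ofHom Algebra.TensorProduct.includeLeft),
    spMap R (CommAlgCat.ofHom Algebra.TensorProduct.includeRight)]

theorem isPullback_sq : IsPullback (Spec.map (CommRingCat.ofHom (Algebra.TensorProduct.includeLeftRingHom : B →+* B ⊗[R] B)))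
    (Spec.map (CommRingCat.ofHom (Algebra.TensorProduct.includeRight.toRingHom : B →+* B ⊗[R] B)))
    (Spec.map (CommRingCat.ofHom (algebraMap R B))) (Spec.map (CommRingCat.ofHom (algebraMap R B))) :=
  isPullback_SpecMap_of_isPushout _ _ _ _ (CommRingCat.isPushout_tensorProduct R B B)

theorem sq_π_zero : sq (R := R) B ≫ Pi.π (fun _ : Fin 2 => X₀ (R := R) B) (0 : Fin 2) =
    spMap R (CommAlgCat.ofHom Algebra.TensorProduct.includeLeft) := by
  rw [sq, Pi.lift_π]
  rfl

theorem sq_π_one : sq (R := R) B ≫ Pi.π (fun _ : Fin 2 => X₀ (R := R) B) (1 : Fin 2) =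
    spMap R (CommAlgCat.ofHom Algebra.TensorProduct.includeRight) := by
  rw [sq, Pi.lift_π]
  rfl

theorem spMap_left {C D : Adeq.Alg R} (f : C ⟶ D) :
    (spMap R f).left = Spec.map (CommRingCat.ofHom f.hom.toRingHom) := rfl

instance isIso_sq : IsIso (sq (R := R) B) := by
  have hw : ∀ j, (Pi.π (fun _ : Fin 2 => X₀ (R := R) B) j).left ≫ Spec.map (CommRingCat.ofHom (algebraMap R B)) =
      (pw (X₀ (R := R) B) 1).hom := fun j => by
    have h := Over.w (Pi.π (fun _ : Fin 2 => X₀ (R := R) B) j)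
    rw [sp_hom] at h
    exact h
  let hp := isPullback_sq (R := R) B
  let L := hp.lift _ _ ((hw 0).trans (hw 1).symm)
  let g : pw (X₀ (R := R) B) 1 ⟶ sp R (Adeq.algOf R (B ⊗[R] B)) := Over.homMk L (by
    rw [sp_hom]
    refine Eq.trans ?_ (hw 0)
    refine Eq.trans ?_ (congrArg (· ≫ Spec.map (CommRingCat.ofHom (algebraMap R B))) (hp.lift_fst _ _ ((hw 0).trans (hw 1).symm)))
    rw [Category.assoc, ← Spec.map_comp]
    exact congrArg (fun w => L ≫ Spec.map w) (CommRingCat.hom_ext (RingHom.ext fun c => rfl)))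
  have h0 : g.left ≫ Spec.map (CommRingCat.ofHom (Algebra.TensorProduct.includeLeftRingHom : B →+* B ⊗[R] B)) =
      (Pi.π (fun _ : Fin 2 => X₀ (R := R) B) (0 : Fin 2)).left := hp.lift_fst _ _ ((hw 0).trans (hw 1).symm)
  have h1 : g.left ≫ Spec.map (CommRingCat.ofHom (Algebra.TensorProduct.includeRight.toRingHom : B →+* B ⊗[R] B)) =
      (Pi.π (fun _ : Fin 2 => X₀ (R := R) B) (1 : Fin 2)).left := hp.lift_snd _ _ ((hw 0).trans (hw 1).symm)
  have k0 : g ≫ spMap R (CommAlgCat.ofHom (Algebra.TensorProduct.includeLeft : B →ₐ[R] B ⊗[R] B)) =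
      Pi.π (fun _ : Fin 2 => X₀ (R := R) B) (0 : Fin 2) := Over.OverMorphism.ext h0
  have k1 : g ≫ spMap R (CommAlgCat.ofHom (Algebra.TensorProduct.includeRight : B →ₐ[R] B ⊗[R] B)) =
      Pi.π (fun _ : Fin 2 => X₀ (R := R) B) (1 : Fin 2) := Over.OverMorphism.ext h1
  have l0 := congrArg Over.Hom.left ((Category.assoc _ _ _).trans ((congrArg (sq B ≫ ·) k0).trans (sq_π_zero B)))
  have l1 := congrArg Over.Hom.left ((Category.assoc _ _ _).trans ((congrArg (sq B ≫ ·) k1).trans (sq_π_one B)))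
  rw [Over.comp_left, spMap_left] at l0 l1
  refine ⟨g, Over.OverMorphism.ext (hp.hom_ext (l0.trans (Category.id_comp _).symm) (l1.trans (Category.id_comp _).symm)),
    Pi.hom_ext _ _ fun j => ?_⟩
  rw [Category.assoc, Category.id_comp]
  fin_cases j
  · exact (congrArg (g ≫ ·) (sq_π_zero B)).trans k0
  · exact (congrArg (g ≫ ·) (sq_π_one B)).trans k1

/-- Exactness of the Cech complex in degree one, in terms of tensor powers. -/
theorem ex_of_cocycle (k : Type u) [Field k] (B : Type u) [CommRing B] [Algebra k B]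
    (G : (Over (Spec (CommRingCat.of k)))ᵒᵖ ⥤ AddCommGrpCat.{u + 1})
    (h : ∀ x' : G.obj (op (sp (CommRingCat.of k) (Adeq.algOf (CommRingCat.of k) (B ⊗[k] B)))),
      (G.map (spMap (CommRingCat.of k) (CommAlgCat.ofHom (d₀ k B) :
          Adeq.algOf (CommRingCat.of k) (B ⊗[k] B) ⟶ Adeq.algOf (CommRingCat.of k) (B ⊗[k] (B ⊗[k] B)))).op).hom x' +
        (G.map (spMap (CommRingCat.of k) (CommAlgCat.ofHom (d₂ k B) :
          Adeq.algOf (CommRingCat.of k) (B ⊗[k] B) ⟶ Adeq.algOf (CommRingCat.of k) (B ⊗[k] (B ⊗[k] B)))).op).hom x' =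
        (G.map (spMap (CommRingCat.of k) (CommAlgCat.ofHom (d₁ k B) :
          Adeq.algOf (CommRingCat.of k) (B ⊗[k] B) ⟶ Adeq.algOf (CommRingCat.of k) (B ⊗[k] (B ⊗[k] B)))).op).hom x' →
      ∃ y : G.obj (op (sp (CommRingCat.of k) (Adeq.algOf (CommRingCat.of k) B))),
        (G.map (spMap (CommRingCat.of k) (CommAlgCat.ofHom Algebra.TensorProduct.includeRight :
          Adeq.algOf (CommRingCat.of k) B ⟶ Adeq.algOf (CommRingCat.of k) (B ⊗[k] B))).op).hom y =
        x' + (G.map (spMap (CommRingCat.of k) (CommAlgCat.ofHom Algebra.TensorProduct.includeLeft :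
          Adeq.algOf (CommRingCat.of k) B ⟶ Adeq.algOf (CommRingCat.of k) (B ⊗[k] B))).op).hom y) :
    Ex (X₀ (R := CommRingCat.of k) B) G 0 := by
  let R := CommRingCat.of k
  let X := X₀ (R := R) B
  let B₂ := Adeq.algOf R (B ⊗[k] B)
  let B₃ := Adeq.algOf R (B ⊗[k] (B ⊗[k] B))
  let δ₀ : B₂ ⟶ B₃ := CommAlgCat.ofHom (d₀ k B)
  let δ₁ : B₂ ⟶ B₃ := CommAlgCat.ofHom (d₁ k B)
  let δ₂ : B₂ ⟶ B₃ := CommAlgCat.ofHom (d₂ k B)
  let iL : Adeq.algOf R B ⟶ B₂ := CommAlgCat.ofHom Algebra.TensorProduct.includeLeft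
  let iR : Adeq.algOf R B ⟶ B₂ := CommAlgCat.ofHom Algebra.TensorProduct.includeRight
  let c₀ : Adeq.algOf R B ⟶ B₃ := iL ≫ δ₂
  let c₁ : Adeq.algOf R B ⟶ B₃ := iR ≫ δ₂
  let c₂ : Adeq.algOf R B ⟶ B₃ := iR ≫ δ₀
  have e₂₀ : iL ≫ δ₀ = c₁ := CommAlgCat.hom_ext (AlgHom.ext fun b => rfl)
  have e₁₀ : iL ≫ δ₁ = c₀ := CommAlgCat.hom_ext (AlgHom.ext fun b => rfl)
  have e₁₁ : iR ≫ δ₁ = c₂ := CommAlgCat.hom_ext (AlgHom.ext fun b => rfl)
  let m₃ : sp R B₃ ⟶ pw X 2 := Pi.lift ![spMap R c₀, spMap R c₁, spMap R c₂]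
  have hs : ∀ {C D : Adeq.Alg R} (f : C ⟶ D) {E : Adeq.Alg R} (g : D ⟶ E),
      spMap R g ≫ spMap R f = spMap R (f ≫ g) := fun f _ g => by
    rw [spMap, spMap, spMap, op_comp, Functor.map_comp]
  have f₀ : m₃ ≫ fc X (0 : Fin 3) = spMap R δ₀ ≫ sq B := Pi.hom_ext _ _ fun j => by
    rw [Category.assoc, Category.assoc, fc_π, sq, Pi.lift_π, Pi.lift_π]
    fin_cases j
    · exact ((hs iL δ₀).trans (congrArg (fun w => spMap R w) e₂₀)).symm
    · exact (hs iR δ₀).symm
  have f₁ : m₃ ≫ fc X (1 : Fin 3) = spMap R δ₁ ≫ sq B := Pi.hom_ext _ _ fun j => by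
    rw [Category.assoc, Category.assoc, fc_π, sq, Pi.lift_π, Pi.lift_π]
    fin_cases j
    · exact ((hs iL δ₁).trans (congrArg (fun w => spMap R w) e₁₀)).symm
    · exact ((hs iR δ₁).trans (congrArg (fun w => spMap R w) e₁₁)).symm
  have f₂ : m₃ ≫ fc X (2 : Fin 3) = spMap R δ₂ ≫ sq B := Pi.hom_ext _ _ fun j => by
    rw [Category.assoc, Category.assoc, fc_π, sq, Pi.lift_π, Pi.lift_π]
    fin_cases j
    · exact (hs iL δ₂).symm
    · exact (hs iR δ₂).symm
  intro x hx
  let x' := (G.map (sq (R := R) B).op).hom x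
  have hD : (G.map (spMap R δ₀).op).hom x' + (G.map (spMap R δ₂).op).hom x' = (G.map (spMap R δ₁).op).hom x' := by
    have h := congrArg (G.map m₃.op).hom hx
    rw [D_apply, Fin.sum_univ_three, map_add, map_add, map_zero] at h
    simp only [Fin.val_zero, pow_zero, one_smul, Fin.val_one, pow_one, neg_smul, Fin.val_two, map_neg] at h
    rw [neg_one_sq, one_smul, map_comp_apply, map_comp_apply, map_comp_apply, f₀, f₁, f₂,
      ← map_comp_apply, ← map_comp_apply, ← map_comp_apply] at h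
    rw [← sub_eq_zero]
    convert h using 1
    abel
  obtain ⟨y₀, hy₀⟩ := h x' hD
  refine ⟨(G.map (Pi.π (fun _ : Fin 1 => X) 0).op).hom y₀, ?_⟩
  apply map_iso_injective (P := G) (sq (R := R) B)
  have g₀ : (sq (R := R) B ≫ fc X (0 : Fin 2)) ≫ Pi.π (fun _ : Fin 1 => X) 0 = spMap R iR := by
    rw [Category.assoc, fc_π, sq, Pi.lift_π]; rfl
  have g₁ : (sq (R := R) B ≫ fc X (1 : Fin 2)) ≫ Pi.π (fun _ : Fin 1 => X) 0 = spMap R iL := by
    rw [Category.assoc, fc_π, sq, Pi.lift_π]; rfl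
  rw [D_apply, Fin.sum_univ_two, Fin.val_zero, pow_zero, one_smul, Fin.val_one, pow_one, neg_smul, one_smul, map_add,
    map_neg, map_comp_apply, map_comp_apply, map_comp_apply, map_comp_apply, g₀, g₁, ← sub_eq_add_neg, sub_eq_iff_eq_add]
  exact hy₀

/-- Over a field the cocycles of the multiplicative group are coboundaries. -/
theorem ex_Gm (k : Type u) [Field k] (B : Type u) [CommRing B] [Algebra k B] [Nontrivial B] {S : Scheme.{u}}
    (a : Spec (CommRingCat.of k) ⟶ S) :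
    Ex (X₀ (R := CommRingCat.of k) B) (pr (CGrpSh2.Gm Scheme.fppfPrecoverage S) a) 0 := by
  refine ex_of_cocycle k B _ fun x' hD => ?_
  let R := CommRingCat.of k
  let u : (B ⊗[k] B)ˣ := unitsEquiv a (Adeq.algOf R (B ⊗[k] B)) x'
  have hu : d₀ k B u * d₂ k B u = d₁ k B u := by
    have h := congrArg (fun z => ((unitsEquiv a (Adeq.algOf R (B ⊗[k] (B ⊗[k] B))) z :
      (Adeq.algOf R (B ⊗[k] (B ⊗[k] B)) : Type u)ˣ) : (Adeq.algOf R (B ⊗[k] (B ⊗[k] B)) : Type u))) hD
    rw [unitsEquiv_add, Units.val_mul, unitsEquiv_map, unitsEquiv_map, unitsEquiv_map] at h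
    exact h
  obtain ⟨m, hm⟩ := exists_unit_of_cocycle u hu
  refine ⟨(unitsEquiv a (Adeq.algOf R B)).symm m, ?_⟩
  apply (unitsEquiv a (Adeq.algOf R (B ⊗[k] B))).injective
  apply Units.ext
  rw [unitsEquiv_add, Units.val_mul, unitsEquiv_map, unitsEquiv_map, Equiv.apply_symm_apply]
  exact hm

/-- The first fppf cohomology group of the multiplicative group of a field vanishes. -/
theorem subsingleton_H_one_Gm (k : Type u) [Field k] :
    Subsingleton (BigSite.H Scheme.fppfPrecoverage (Spec (CommRingCat.of k))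
      (CGrpSh2.Gm Scheme.fppfPrecoverage (Spec (CommRingCat.of k))) 1) :=
  subsingleton_H_one _ _ fun B _ _ _ _ => by
    have : Nontrivial B := ((TensorProduct.rid (CommRingCat.of k) B).symm.toEquiv).nontrivial
    exact ex_Gm k B _

end Groth.Agent.GmField79
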