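import Groth.Agent.DixBrauer.HofInj
import Groth.Prelude.Def_HRes

/-!
# First cohomology of a big direct image injects
-/

set_option autoImplicit false

universe u

open CategoryTheory Limits AlgebraicGeometry Opposite Abelian

namespace Groth.Agent.GmField79

/-- The first cohomology of a direct image vanishes if that of the sheaf does. -/
theorem subsingleton_H_one_pushBig (K : Precoverage Scheme.{u}) {S T : Scheme.{u}} (f : T ⟶ S) (F : BigSite.Ab K T)
    (h : Subsingleton (BigSite.H K T F 1)) :
    Subsingleton (BigSite.H K S ((BigSite.pushBig K f AddCommGrpCat.{u + 1}).obj F) 1) := by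
  haveI : (BigSite.pullBig K f AddCommGrpCat.{u + 1}).IsRightAdjoint := (BigSite.shriekAbAdj K f).isRightAdjoint
  haveI : (BigSite.pullBig K f AddCommGrpCat.{u + 1}).IsLeftAdjoint := (BigSite.bigAdj K f _).isLeftAdjoint
  haveI : PreservesFiniteLimits (BigSite.pullBig K f AddCommGrpCat.{u + 1}) := inferInstance
  haveI : PreservesFiniteColimits (BigSite.pullBig K f AddCommGrpCat.{u + 1}) := inferInstance
  haveI : EnoughInjectives (BigSite.Ab K T) := inferInstance
  refine subsingleton_of_forall_eq 0 fun x => ?_
  exact Groth.Agent.DixBrauer.HofInj.hof_injective_one (BigSite.bigAdj K f AddCommGrpCat.{u + 1})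
    (HRes.pullConst K f (AddCommGrpCat.of (ULift.{u + 1} ℤ))).inv inferInstance F x (h.elim _ _)

end Groth.Agent.GmField79
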